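import Cfsg.Agent.Lib.Ree.Instance
import Cfsg.Agent.Lib.Ree.Normalizer

/-!
All involutions of the standard Sylow 2-subgroup of the small Ree group are conjugate.
-/

set_option autoImplicit false

namespace Cfsg.Agent.Lib.ReeDeg41

set_option maxHeartbeats 800000

open Cfsg.Lie Cfsg.Agent.Lib.Ree

/-- The powers of an element of prime order give distinct conjugates of an element it does not fix. -/
theorem conj_pow_injective {G : Type*} [Group G] {n y : G} {p : ℕ} [Fact p.Prime] (hn : orderOf n = p)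
    (hy : n * y * n⁻¹ ≠ y) : Function.Injective fun i : Fin p => n ^ (i : ℕ) * y * (n ^ (i : ℕ))⁻¹ := by
  intro i j e
  simp only at e
  set c := (n ^ (i : ℕ))⁻¹ * n ^ (j : ℕ) with hc
  by_contra hij
  have hcy : c * y * c⁻¹ = y := by
    rw [hc, show (n ^ (i : ℕ))⁻¹ * n ^ (j : ℕ) * y * ((n ^ (i : ℕ))⁻¹ * n ^ (j : ℕ))⁻¹ =
      (n ^ (i : ℕ))⁻¹ * (n ^ (j : ℕ) * y * (n ^ (j : ℕ))⁻¹) * n ^ (i : ℕ) by group, ← e]
    group
  have hc1 : c ≠ 1 := fun h => hij (Fin.ext (pow_injOn_Iio_orderOf (by rw [Set.mem_Iio, hn]; exact i.2)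
    (by rw [Set.mem_Iio, hn]; exact j.2) (inv_mul_eq_one.1 h)))
  have hmem : c ∈ Subgroup.zpowers n :=
    mul_mem (inv_mem (pow_mem (Subgroup.mem_zpowers n) _)) (pow_mem (Subgroup.mem_zpowers n) _)
  have : Finite ↥(Subgroup.zpowers n) := Nat.finite_of_card_ne_zero (by
    rw [Nat.card_zpowers, hn]; exact (Fact.out : p.Prime).ne_zero)
  have hcn : orderOf c = p := by
    have hd : orderOf c ∣ p := hn ▸ orderOf_dvd_of_mem_zpowers hmem
    exact ((Fact.out : p.Prime).eq_one_or_self_of_dvd _ hd).resolve_left fun h => hc1 (orderOf_eq_one_iff.1 h)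
  have heq : Subgroup.zpowers c = Subgroup.zpowers n :=
    Subgroup.eq_of_le_of_card_ge (Subgroup.zpowers_le.2 hmem) (by rw [Nat.card_zpowers, Nat.card_zpowers, hn, hcn])
  have hle : Subgroup.zpowers c ≤ Subgroup.centralizer {y} :=
    Subgroup.zpowers_le.2 (Subgroup.mem_centralizer_singleton_iff.2 (mul_inv_eq_iff_eq_mul.1 hcy))
  exact hy (mul_inv_eq_iff_eq_mul.2
    (Subgroup.mem_centralizer_singleton_iff.1 (hle (heq ▸ Subgroup.mem_zpowers n))))

variable {K : Type*} [Field K] [Fintype K] {m : ℕ}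

/-- Every involution of the standard Sylow 2-subgroup is conjugate to the torus involution. -/
theorem isConj_invG (F : Facts K m) {x : ↥(RG K m)} (hx : x ∈ F.two8) (hx1 : x ≠ 1) :
    IsConj F.invG x := by
  classical
  have : Fact (Nat.Prime 2) := ⟨Nat.prime_two⟩
  have : Fact (Nat.Prime 7) := ⟨by norm_num⟩
  have : Fintype ↥(RG K m) := Fintype.ofFinite _
  obtain ⟨n, hn⟩ := exists_prime_orderOf_dvd_card' (G := ↥(Subgroup.normalizer (F.two8 : Set ↥(RG K m)))) 7
    (by rw [F.card_normalizer_two8]; norm_num)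
  set S : Finset ↥(RG K m) := Finset.univ.filter (· ∈ F.two8) with hSdef
  have hS : S.card = 8 := by
    rw [← F.card_two8, Nat.card_eq_fintype_card, Fintype.card_subtype]
  have hord : orderOf (n : ↥(RG K m)) = 7 := by rw [Subgroup.orderOf_coe, hn]
  have hmem : ∀ y ∈ F.two8, ∀ i : ℕ, (n : ↥(RG K m)) ^ i * y * ((n : ↥(RG K m)) ^ i)⁻¹ ∈ F.two8 := fun y hy i =>
    (Subgroup.mem_normalizer_iff.1 (pow_mem n.2 i) y).1 hy
  have h1S : (1 : ↥(RG K m)) ∈ S := by simp [hSdef]
  have hjS : F.invG ∈ S := by simp [hSdef, F.invG_mem_two8]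
  have hmove : (n : ↥(RG K m)) * F.invG * (n : ↥(RG K m))⁻¹ ≠ F.invG := by
    intro hfix
    have hall : ∀ y ∈ F.two8, (n : ↥(RG K m)) * y * (n : ↥(RG K m))⁻¹ = y := by
      intro y hy
      by_contra hne
      have hfixi : ∀ i : ℕ, (n : ↥(RG K m)) ^ i * F.invG * ((n : ↥(RG K m)) ^ i)⁻¹ = F.invG := fun i => by
        induction i with
        | zero => simp
        | succ i ih =>
          conv_rhs => rw [← hfix, ← ih]
          rw [pow_succ']; group
      have hsub : Finset.univ.image (fun i : Fin 7 => (n : ↥(RG K m)) ^ (i : ℕ) * y * ((n : ↥(RG K m)) ^ (i : ℕ))⁻¹) ⊆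
          (S.erase 1).erase F.invG := by
        intro z hz
        simp only [Finset.mem_image, Finset.mem_univ, true_and] at hz
        obtain ⟨i, rfl⟩ := hz
        rw [Finset.mem_erase, Finset.mem_erase]
        refine ⟨fun h => hne ?_, fun h => hne ?_, by simp [hSdef, hmem y hy i]⟩
        · have : y = F.invG := mul_left_cancel (mul_right_cancel (h.trans (hfixi i).symm))
          rw [this]; exact hfix
        · rw [conj_eq_one_iff.1 h]; group
      have := Finset.card_le_card hsub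
      rw [Finset.card_image_of_injective _ (conj_pow_injective hord hne), Finset.card_univ, Fintype.card_fin,
        Finset.card_erase_of_mem (Finset.mem_erase.2 ⟨F.invG_ne_one, hjS⟩), Finset.card_erase_of_mem h1S, hS] at this
      omega
    have hn8 : (n : ↥(RG K m)) ∈ F.two8 := by
      refine F.centralizer_two8.le (Subgroup.mem_centralizer_iff.2 ?_)
      exact fun y hy => (mul_inv_eq_iff_eq_mul.1 (hall y hy)).symm
    have h2 := orderOf_dvd_of_pow_eq_one (n := 2) (by rw [pow_two, F.two8_exp hn8] : (n : ↥(RG K m)) ^ 2 = 1)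
    rw [hord] at h2
    norm_num at h2
  have heq : Finset.univ.image (fun i : Fin 7 => (n : ↥(RG K m)) ^ (i : ℕ) * F.invG * ((n : ↥(RG K m)) ^ (i : ℕ))⁻¹) =
      S.erase 1 := by
    refine Finset.eq_of_subset_of_card_le (fun z hz => ?_) ?_
    · simp only [Finset.mem_image, Finset.mem_univ, true_and] at hz
      obtain ⟨i, rfl⟩ := hz
      rw [Finset.mem_erase]
      exact ⟨fun h => F.invG_ne_one (conj_eq_one_iff.1 h), by simp [hSdef, hmem _ F.invG_mem_two8 i]⟩
    · rw [Finset.card_image_of_injective _ (conj_pow_injective hord hmove), Finset.card_univ, Fintype.card_fin,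
        Finset.card_erase_of_mem h1S, hS]
  have hxS : x ∈ S.erase 1 := Finset.mem_erase.2 ⟨hx1, by simp [hSdef, hx]⟩
  rw [← heq] at hxS
  simp only [Finset.mem_image, Finset.mem_univ, true_and] at hxS
  obtain ⟨i, rfl⟩ := hxS
  exact isConj_iff.2 ⟨_, rfl⟩

end Cfsg.Agent.Lib.ReeDeg41
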