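import Cfsg.Agent.Lib.Ree.Instance
import Cfsg.Agent.Lib.Ree.SylowThree
import Cfsg.Agent.Lib.TwistGen.Ree

/-!
Group facts about the small Ree groups for the degree bound: multiplication in the unipotent group,
and a normal subgroup containing the centre of the unipotent group is everything.
-/

set_option autoImplicit false

namespace Cfsg.Agent.Lib.ReeDeg41

set_option maxHeartbeats 800000

open Cfsg.Lie Cfsg.Agent.Lib.Chev Cfsg.Agent.Lib.Twisted Cfsg.Agent.Lib.Ree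

variable {K : Type*} [Field K] [Fintype K] {m : ℕ}

/-- The product of two elements of the unipotent group. -/
theorem uG_mul (hK : Fintype.card K = 3 ^ (2 * m + 1)) (t u v t' u' v' : K) :
    uG m t u v * uG m t' u' v' = uG m (t + t') (u + u' - t * (t' ^ 3 ^ m) ^ 3)
      (v + v' - t ^ 2 * (t' ^ 3 ^ m) ^ 3 - t' * u + t * t' * (t' ^ 3 ^ m) ^ 3) := by
  have := ReeG.charP_of_card hK
  refine Subtype.ext ?_
  show uWord (3 ^ m) t u v * uWord (3 ^ m) t' u' v' = uWord (3 ^ m) _ _ _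
  rw [← coe_reeU, ← coe_reeU, ← coe_reeU, ← Subgroup.coe_mul,
    TwistGen.Ree.reeU_mul rfl (ReeG.pow_theta hK)]

theorem uG_add_middle (hK : Fintype.card K = 3 ^ (2 * m + 1)) (u v u' v' : K) :
    uG m 0 u v * uG m 0 u' v' = uG m 0 (u + u') (v + v') := by
  rw [uG_mul hK]
  congr 1 <;> simp

theorem uG_first_middle (hK : Fintype.card K = 3 ^ (2 * m + 1)) (t u v : K) :
    uG m t 0 0 * uG m 0 u v = uG m 0 u (v + t * u) * uG m t 0 0 := by
  rw [uG_mul hK, uG_mul hK]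
  congr 1 <;> simp

theorem torG_conj (F : Facts K m) (μ : Kˣ) (t u v : K) : F.torG μ * uG m t u v * (F.torG μ)⁻¹ =
    uG m ((μ : K) * t) ((μ : K) ^ (3 * 3 ^ m + 1) * u) ((μ : K) ^ (3 * 3 ^ m + 2) * v) :=
  Subtype.ext (F.hEl_conj_uWord μ t u v)

/-- The representative of the longest element, in the group. -/
noncomputable def nG (K : Type*) [Field K] [CharP K 3] (m : ℕ) : ↥(RG K m) :=
  ⟨(ReeG.n0 (K := K) : GG K), ReeG.n0_mem⟩

section

variable [CharP K 3]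

omit [Fintype K] [CharP K 3] in
theorem coe_reeV (t u v : K) : (ReeG.reeV (3 ^ m) t u v : GG K) = vWord (3 ^ m) t u v :=
  Units.ext (by rw [ReeG.reeV, coe_wordG, coe_vWord])

theorem vWord_eq (t u v : K) :
    (⟨vWord (3 ^ m) t u v, vWord_mem _ _ _ _⟩ : ↥(RG K m)) = nG K m * uG m t u v * (nG K m)⁻¹ := by
  refine Subtype.ext ?_
  show vWord (3 ^ m) t u v = (ReeG.n0 (K := K) : GG K) * uWord (3 ^ m) t u v * (ReeG.n0 (K := K) : GG K)⁻¹
  rw [← coe_reeV, ← coe_reeU, ← Subgroup.coe_mul, ← Subgroup.coe_inv, ← Subgroup.coe_mul,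
    ← ReeG.reeV_eq_conj]

omit [Fintype K] in
theorem n0_word : ReeG.n0 (K := K) =
    ReeG.reeU (3 ^ m) (0 : K) 0 1 * ReeG.reeV (3 ^ m) (0 : K) 0 1 * ReeG.reeU (3 ^ m) (0 : K) 0 1 *
      ReeG.reeV (3 ^ m) (0 : K) 0 1 * ReeG.reeU (3 ^ m) (0 : K) 0 1 * ReeG.reeV (3 ^ m) (0 : K) 0 1 *
      ReeG.reeU (3 ^ m) (0 : K) 0 1 := by
  have e : constWordsEq chevG2 G2.cert 3 (nInts chevG2 ReeG.L0)
      (ReeG.intU 0 0 1 ++ ReeG.intV 0 0 1 ++ ReeG.intU 0 0 1 ++ ReeG.intV 0 0 1 ++ ReeG.intU 0 0 1 ++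
        ReeG.intV 0 0 1 ++ ReeG.intU 0 0 1) = true := by
    decide +kernel
  rw [ReeG.n0, wordG_const_eq checked_G2 3 e]
  simp only [castW, List.map_append, wordG_append]
  simp only [← castW.eq_1, ReeG.castW_intU (m := m), ReeG.castW_intV (m := m)]
  simp [ReeG.reeU, ReeG.reeV]

/-- A normal subgroup containing the centre of the unipotent group is everything. -/
theorem normal_eq_top (hm : 1 ≤ m) (F : Facts K m) (N : Subgroup ↥(RG K m)) [N.Normal]
    (hz : ∀ v : K, uG m 0 0 v ∈ N) : N = ⊤ := by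
  classical
  set n := nG K m with hn
  have hV : ∀ t u v : K, uG m t u v ∈ N → (⟨vWord (3 ^ m) t u v, vWord_mem _ _ _ _⟩ : ↥(RG K m)) ∈ N :=
    fun t u v h => by rw [vWord_eq]; exact Subgroup.Normal.conj_mem inferInstance _ h _
  have hword : n = uG m 0 0 1 * ⟨_, vWord_mem (3 ^ m) (0 : K) 0 1⟩ * uG m 0 0 1 *
      ⟨_, vWord_mem (3 ^ m) (0 : K) 0 1⟩ * uG m 0 0 1 * ⟨_, vWord_mem (3 ^ m) (0 : K) 0 1⟩ * uG m 0 0 1 := by
    refine Subtype.ext ?_
    simp only [hn, nG, uG, Subgroup.coe_mul, ← coe_reeU, ← coe_reeV]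
    simp only [← Subgroup.coe_mul, ← n0_word]
  have hnN : n ∈ N := by
    rw [hword]
    have h1 := hz 1
    have h2 := hV 0 0 1 h1
    exact mul_mem (mul_mem (mul_mem (mul_mem (mul_mem (mul_mem h1 h2) h1) h2) h1) h2) h1
  have hnconj : ∀ μ : Kˣ, n * F.torG μ * n⁻¹ = (F.torG μ)⁻¹ := fun μ => by
    refine Subtype.ext ?_
    show (ReeG.n0 (K := K) : GG K) * hEl (3 ^ m) μ * (ReeG.n0 (K := K) : GG K)⁻¹ = (hEl (3 ^ m) μ)⁻¹
    rw [ReeG.coe_n0]
    exact long_conj_tor _ _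
  have hsq : ∀ μ : Kˣ, F.torG μ * F.torG μ ∈ N := fun μ => by
    have h1 : n * F.torG μ * n⁻¹ * (F.torG μ)⁻¹ ∈ N := by
      rw [show n * F.torG μ * n⁻¹ * (F.torG μ)⁻¹ = n * (F.torG μ * n⁻¹ * (F.torG μ)⁻¹) by group]
      exact mul_mem hnN (Subgroup.Normal.conj_mem inferInstance _ (inv_mem hnN) _)
    rw [hnconj] at h1
    have h2 := inv_mem h1
    rwa [mul_inv_rev, inv_inv] at h2
  obtain ⟨ν, hν⟩ := IsCyclic.exists_generator (α := Kˣ)
  have hcard : 26 ≤ orderOf ν := by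
    rw [orderOf_eq_card_of_forall_mem_zpowers hν, Nat.card_units, F.card_nat]
    have : 27 ≤ 3 ^ (2 * m + 1) := by
      calc 27 = 3 ^ 3 := by norm_num
        _ ≤ _ := Nat.pow_le_pow_right (by norm_num) (by omega)
    omega
  set h := F.torG ν * F.torG ν with hh
  have hhEl : h = F.torG (ν * ν) := Subtype.ext (hEl_mul _ _ _)
  let f : ↥F.RU → ↥F.RU := fun x => ⟨h * x * h⁻¹ * (x : ↥(RG K m))⁻¹, by
    refine mul_mem ?_ (inv_mem x.2)
    obtain ⟨t, u, v, e⟩ := (F.unip _).1 (F.mem_RU.1 x.2)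
    rw [show (x : ↥(RG K m)) = uG m t u v from Subtype.ext e, hhEl, torG_conj]
    exact F.mem_RU.2 (F.uWord_mem_U1 _ _ _)⟩
  have hinj : Function.Injective f := by
    rintro ⟨x, hx⟩ ⟨y, hy⟩ e
    have e' : h * x * h⁻¹ * x⁻¹ = h * y * h⁻¹ * y⁻¹ := congrArg Subtype.val e
    have hfix : h * (y⁻¹ * x) = (y⁻¹ * x) * h := by
      calc h * (y⁻¹ * x) = (h * y * h⁻¹)⁻¹ * (h * x * h⁻¹ * x⁻¹) * x * h := by group
        _ = (h * y * h⁻¹)⁻¹ * (h * y * h⁻¹ * y⁻¹) * x * h := by rw [e']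
        _ = _ := by group
    obtain ⟨t, u, v, ew⟩ := (F.unip _).1 (F.mem_RU.1 (mul_mem (inv_mem hy) hx))
    by_contra hne
    have hne' : uWord (3 ^ m) t u v ≠ 1 := fun h1 => hne (Subtype.ext (inv_mul_eq_one.1
      (Subtype.ext (ew.trans h1) : y⁻¹ * x = 1)).symm)
    have h4 : ν ^ 4 = 1 := by
      rcases F.fix_cases (μ := ν * ν) hne' (by
          have hkey : ∀ z : ↥(RG K m), h * z = z * h → hEl (3 ^ m) (ν * ν) * (z : GG K) =
              (z : GG K) * hEl (3 ^ m) (ν * ν) := fun z e2 => by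
            have := congrArg Subtype.val e2
            rw [hhEl, Subgroup.coe_mul, Subgroup.coe_mul] at this
            exact this
          exact ew ▸ hkey _ hfix) with h1 | ⟨h1, -, -⟩
      · rw [show ν ^ 4 = (ν * ν) * (ν * ν) from by simp [pow_succ, mul_assoc], h1, one_mul]
      · rw [show ν ^ 4 = (ν * ν) * (ν * ν) from by simp [pow_succ, mul_assoc], h1, neg_mul_neg, one_mul]
    have := Nat.le_of_dvd (by norm_num) (orderOf_dvd_of_pow_eq_one h4)
    omega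
  have hU : ∀ t u v : K, uG m t u v ∈ N := fun t u v => by
    obtain ⟨x, hx⟩ := (Finite.injective_iff_surjective.1 hinj) ⟨uG m t u v, F.mem_RU.2 (F.uWord_mem_U1 _ _ _)⟩
    have e : h * x * h⁻¹ * (x : ↥(RG K m))⁻¹ = uG m t u v := congrArg Subtype.val hx
    rw [← e, show h * (x : ↥(RG K m)) * h⁻¹ * (x : ↥(RG K m))⁻¹ = h * ((x : ↥(RG K m)) * h⁻¹ * (x : ↥(RG K m))⁻¹) by group]
    exact mul_mem (hsq ν) (Subgroup.Normal.conj_mem inferInstance _ (inv_mem (hsq ν)) _)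
  have hle : RG K m ≤ N.map (RG K m).subtype := by
    refine (Subgroup.closure_le _).2 ?_
    rintro g ⟨w, ⟨t, u, v, rfl | rfl⟩, hg⟩
    · exact ⟨uG m t u v, hU t u v, (Units.ext (hg.trans (coe_uWord _ t u v).symm)).symm⟩
    · exact ⟨⟨_, vWord_mem _ _ _ _⟩, hV t u v (hU t u v), (Units.ext (hg.trans (coe_vWord _ t u v).symm)).symm⟩
  refine eq_top_iff.2 fun g _ => ?_
  obtain ⟨y, hy, e⟩ := hle g.2
  exact (Subtype.ext e : y = g) ▸ hy

end

end Cfsg.Agent.Lib.ReeDeg41
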