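import Cfsg.Agent.Lib.ReeDeg41.Split
import Cfsg.Agent.Lib.ReeDeg41.Kernel
import Cfsg.Agent.Lib.ReeDeg41.Involutions

/-!
Every nontrivial representation of the small Ree group has degree at least `q² - q + 1`.
-/

set_option autoImplicit false

namespace Cfsg.Agent.Lib.ReeDeg41

set_option maxHeartbeats 800000

open Cfsg.Lie Cfsg.Agent.Lib.Chev Cfsg.Agent.Lib.Twisted Cfsg.Agent.Lib.Ree
open Module

variable {K : Type*} [Field K] [Fintype K] {m : ℕ}

/-- The automorphism of the parameters `(u, v)` induced by a torus element times a first root element. -/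
def phi (c d : Kˣ) (t : K) : (K × K) ≃+ (K × K) where
  toFun p := ((c : K) * p.1, (d : K) * (p.2 + t * p.1))
  invFun p := ((↑c⁻¹ : K) * p.1, (↑d⁻¹ : K) * p.2 - t * ((↑c⁻¹ : K) * p.1))
  left_inv p := by
    refine Prod.ext ?_ ?_
    · simp
    · simp
  right_inv p := by
    refine Prod.ext ?_ ?_
    · simp
    · simp
  map_add' p q := by
    refine Prod.ext ?_ ?_
    · simp [mul_add]
    · show (d : K) * (p.2 + q.2 + t * (p.1 + q.1)) = (d : K) * (p.2 + t * p.1) + (d : K) * (q.2 + t * q.1)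
      ring

omit [Fintype K] in
theorem phi_apply (c d : Kˣ) (t : K) (p : K × K) :
    phi c d t p = ((c : K) * p.1, (d : K) * (p.2 + t * p.1)) := rfl

omit [Fintype K] in
/-- Scalars are seen by a character that is nontrivial at `1`. -/
theorem scalar_inj {ψ : AddChar K ℂ} (hψ : ψ 1 ≠ 1) {a b : K} (h : ∀ v, ψ (a * v) = ψ (b * v)) : a = b := by
  by_contra hab
  refine hψ ?_
  rw [← mul_inv_cancel₀ (sub_ne_zero.2 hab), sub_mul, sub_eq_add_neg, ← mul_neg, AddChar.map_add_eq_mul, h,
    ← AddChar.map_add_eq_mul, ← mul_add, add_neg_cancel, mul_zero, AddChar.map_zero_eq_one]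

theorem degree_bound (hm : 1 ≤ m) (hK : Fintype.card K = 3 ^ (2 * m + 1)) {V : Type*} [AddCommGroup V] [Module ℂ V]
    [FiniteDimensional ℂ V] (π : ↥(RG K m) →* Module.End ℂ V) (hπ : ∃ g, π g ≠ 1) :
    (3 ^ (2 * m + 1)) ^ 2 - 3 ^ (2 * m + 1) + 1 ≤ finrank ℂ V := by
  classical
  have := ReeG.charP_of_card hK
  have F := Lib.Ree.facts hK
  set a : K × K → ↥(RG K m) := fun p => uG m 0 p.1 p.2 with ha'
  have ha : ∀ p q, a (p + q) = a p * a q := fun p q => (uG_add_middle hK _ _ _ _).symm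
  -- the centre acts nontrivially
  obtain ⟨v₀, hv₀⟩ : ∃ v, π (uG m 0 0 v) ≠ 1 := by
    by_contra hcon
    push Not at hcon
    obtain ⟨g, hg⟩ := hπ
    have htop := normal_eq_top hm F (MonoidHom.ker π) (fun v => hcon v)
    exact hg (MonoidHom.mem_ker.1 (htop ▸ Subgroup.mem_top g))
  set cc : Kˣ → Kˣ := fun μ => μ ^ (3 * 3 ^ m + 1) with hcc
  set dd : Kˣ → Kˣ := fun μ => μ ^ (3 * 3 ^ m + 2) with hdd
  have hg : ∀ (μ : Kˣ) (t : K) (p : K × K),
      F.torG μ * uG m t 0 0 * a p = a (phi (cc μ) (dd μ) t p) * (F.torG μ * uG m t 0 0) := by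
    intro μ t p
    rw [mul_assoc, ha']
    simp only [phi_apply]
    rw [uG_first_middle hK, ← mul_assoc, ← mul_assoc]
    congr 1
    rw [← mul_inv_eq_iff_eq_mul, torG_conj]
    simp [hcc, hdd]
  obtain ⟨ψ, hψ⟩ := AddChar.exists_apply_ne_zero.2 (one_ne_zero (α := K))
  set χ₀ : AddChar (K × K) ℂ := ψ.compAddMonoidHom (AddMonoidHom.snd K K) with hχ₀
  set f : Kˣ × K → AddChar (K × K) ℂ := fun x =>
    χ₀.compAddMonoidHom (phi (cc x.1) (dd x.1) x.2).toAddMonoidHom with hf
  have hfapply : ∀ x p, f x p = ψ ((dd x.1 : K) * (p.2 + x.2 * p.1)) := fun x p => rfl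
  have hfinj : Function.Injective f := by
    rintro ⟨μ, t⟩ ⟨μ', t'⟩ e
    have h1 : ∀ v, ψ ((dd μ : K) * v) = ψ ((dd μ' : K) * v) := fun v => by
      have := DFunLike.congr_fun e ((0 : K), v)
      simpa [hfapply] using this
    have h2 : dd μ = dd μ' := Units.ext (scalar_inj hψ h1)
    have h3 : μ = μ' := by
      rw [← mul_inv_eq_one]
      refine Units.ext (F.eq_one_of_fix_last ?_)
      have h4 : (μ * μ'⁻¹) ^ (3 * 3 ^ m + 2) = 1 := by
        rw [mul_pow, inv_pow, mul_inv_eq_one]; exact h2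
      rw [← Units.val_pow_eq_pow_val, h4, Units.val_one]
    subst h3
    have h5 : ∀ u, ψ (((dd μ : K) * t) * u) = ψ (((dd μ : K) * t') * u) := fun u => by
      have := DFunLike.congr_fun e (u, (0 : K))
      simpa [hfapply, mul_assoc] using this
    have h6 := scalar_inj hψ h5
    rw [mul_right_inj' (Units.ne_zero _)] at h6
    rw [h6]
  set S : Finset (AddChar (K × K) ℂ) := Finset.univ.filter (fun χ => ∃ v, χ (0, v) ≠ 1) with hSdef
  set q := Fintype.card K with hq
  have hqpos : 0 < q := Fintype.card_pos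
  have hsub : Finset.univ.image f ⊆ S := by
    intro χ hχ
    simp only [Finset.mem_image, Finset.mem_univ, true_and] at hχ
    obtain ⟨x, rfl⟩ := hχ
    simp only [hSdef, Finset.mem_filter, Finset.mem_univ, true_and]
    refine ⟨((dd x.1)⁻¹ : Kˣ), ?_⟩
    rw [hfapply]
    simpa using hψ
  have hcompl : q ≤ Sᶜ.card := by
    let g : AddChar K ℂ → AddChar (K × K) ℂ := fun φ => φ.compAddMonoidHom (AddMonoidHom.fst K K)
    have hgi : Function.Injective g :=
      AddChar.compAddMonoidHom_injective_left _ (fun x => ⟨(x, 0), rfl⟩)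
    have h := Finset.card_le_card (show Finset.univ.image g ⊆ Sᶜ by
      intro χ hχ
      simp only [Finset.mem_image, Finset.mem_univ, true_and] at hχ
      obtain ⟨φ, rfl⟩ := hχ
      simp [hSdef, g])
    rwa [Finset.card_image_of_injective _ hgi, Finset.card_univ, AddChar.card_eq] at h
  have himg : (Finset.univ.image f).card = (q - 1) * q := by
    rw [Finset.card_image_of_injective _ hfinj, Finset.card_univ, Fintype.card_prod, Fintype.card_units]
  have hall : S.card + Sᶜ.card = q * q := by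
    rw [Finset.card_add_card_compl, AddChar.card_eq, Fintype.card_prod]
  have hqq : (q - 1) * q + q = q * q := by
    rw [← Nat.succ_mul, Nat.succ_eq_add_one, Nat.sub_add_cancel hqpos]
  have heq : Finset.univ.image f = S := by
    refine Finset.eq_of_subset_of_card_le hsub ?_
    omega
  have hScard : S.card = (q - 1) * q := by rw [← heq, himg]
  have hconst : ∀ χ ∈ S, ∀ χ' ∈ S, dimChar π a χ = dimChar π a χ' := by
    have key : ∀ χ ∈ S, dimChar π a χ = dimChar π a χ₀ := by
      intro χ hχ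
      rw [← heq] at hχ
      simp only [Finset.mem_image, Finset.mem_univ, true_and] at hχ
      obtain ⟨x, rfl⟩ := hχ
      exact dimChar_conj π ha _ (hg x.1 x.2) χ₀
    intro χ hχ χ' hχ'
    rw [key χ hχ, key χ' hχ']
  obtain ⟨hle, honly⟩ := orbit_bound π ha S hconst (z := ((0 : K), v₀)) hv₀ (fun χ hχ => by
    simp only [hSdef, Finset.mem_filter, Finset.mem_univ, true_and, not_exists, not_not] at hχ
    exact hχ v₀)
  have hmin : (3 ^ (2 * m + 1)) ^ 2 - 3 ^ (2 * m + 1) = S.card := by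
    rw [hScard, ← hK, Nat.sub_mul, one_mul, pow_two]
  rw [hmin]
  by_contra hcon
  have hfin : finrank ℂ V = S.card := by omega
  have honly' := honly hfin.le
  -- the torus involution has trace zero
  have hjg : ∀ p : K × K, F.invG * a p = a (phi 1 (-1) 0 p) * F.invG := by
    intro p
    have e : F.invG * a p * F.invG⁻¹ = a (phi 1 (-1) 0 p) := by
      refine Subtype.ext ?_
      show invol K m * uWord (3 ^ m) 0 p.1 p.2 * (invol K m)⁻¹ = uWord (3 ^ m) 0 _ _
      rw [F.invol_conj_uWord]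
      simp [phi_apply]
    rw [← e]; group
  have htr : LinearMap.trace ℂ V (π F.invG) = 0 := by
    refine trace_eq_zero π ha (phi 1 (-1) 0) hjg fun χ hd he => ?_
    obtain ⟨v, hv⟩ := (Finset.mem_filter.1 (honly' χ hd)).2
    refine hv ?_
    have h1 : χ (0, -v) = χ (0, v) := by
      have := DFunLike.congr_fun he ((0 : K), v)
      simpa [phi_apply] using this
    have h2 : χ (0, v + v) = 1 := by
      rw [show ((0 : K), v + v) = (0, v) + (0, v) by simp, AddChar.map_add_eq_mul]
      conv_lhs => arg 1; rw [← h1]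
      rw [← AddChar.map_add_eq_mul, show ((0 : K), -v) + (0, v) = 0 by ext <;> simp, AddChar.map_zero_eq_one]
    have h3 : ((0 : K), v) = (0, v + v) + (0, v + v) := by
      refine Prod.ext ?_ ?_
      · simp
      · show v = v + v + (v + v)
        linear_combination -v * F.three_eq_zero
    rw [h3, AddChar.map_add_eq_mul, h2, mul_one]
  have hconj : ∀ x ∈ F.two8, x ≠ 1 → LinearMap.trace ℂ V (π x) = 0 := by
    intro x hx hx1
    obtain ⟨g, rfl⟩ := isConj_iff.1 (isConj_invG F hx hx1)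
    rw [map_mul π (g * F.invG) g⁻¹, LinearMap.trace_mul_comm, ← map_mul π, inv_mul_cancel_left, htr]
  have hw : F.wG ∈ F.two8 := Or.inl (F.mem_fourGrp.2 (Or.inr (Or.inl rfl)))
  have hu : F.mG ∈ F.two8 := Or.inl (F.mem_fourGrp.2 (Or.inr (Or.inr (Or.inl rfl))))
  have h4 := four_dvd π F.wG_sq F.mG_sq F.mG_wG (hconj _ hw F.wG_ne_one) (hconj _ hu F.mG_ne_one)
    (hconj _ (mul_mem hw hu) (fun h => F.wG_ne_mG (by
      rw [← mul_one F.mG, ← h, ← mul_assoc, F.mG_wG, mul_assoc, F.mG_sq, mul_one])))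
  rw [hfin, hScard] at h4
  have hmod : q % 4 = 3 := F.card_mod_four
  rw [Nat.dvd_iff_mod_eq_zero, Nat.mul_mod, hmod, show (q - 1) % 4 = 2 by omega] at h4
  norm_num at h4

end Cfsg.Agent.Lib.ReeDeg41
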