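import Mathlib

/-!
Splitting of a representation along the characters of a finite abelian group mapped into the
acting group, and the orbit bound for the dimension.
-/

set_option autoImplicit false

namespace Cfsg.Agent.Lib.ReeDeg41

open LinearMap Module

variable {A G V : Type*} [AddCommGroup A] [Fintype A] [Group G] [AddCommGroup V] [Module ℂ V]
  [FiniteDimensional ℂ V]

/-- The projection belonging to a character. -/
noncomputable def proj (π : G →* Module.End ℂ V) (a : A → G) (χ : AddChar A ℂ) : Module.End ℂ V :=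
  (Fintype.card A : ℂ)⁻¹ • ∑ p : A, χ (-p) • π (a p)

/-- The dimension belonging to a character. -/
noncomputable def dimChar (π : G →* Module.End ℂ V) (a : A → G) (χ : AddChar A ℂ) : ℕ :=
  finrank ℂ (LinearMap.range (proj π a χ))

variable (π : G →* Module.End ℂ V) {a : A → G}

omit [Fintype A] in
theorem map_zero_of_add (ha : ∀ p q, a (p + q) = a p * a q) : a 0 = 1 := by
  have h := ha 0 0
  rwa [add_zero, left_eq_mul] at h

omit [FiniteDimensional ℂ V] in
theorem sum_proj (ha : ∀ p q, a (p + q) = a p * a q) : ∑ χ : AddChar A ℂ, proj π a χ = 1 := by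
  classical
  unfold proj
  rw [← Finset.smul_sum, Finset.sum_comm]
  simp only [← Finset.sum_smul, AddChar.sum_apply_eq_ite, neg_eq_zero, ite_smul, zero_smul]
  rw [Finset.sum_ite_eq', if_pos (Finset.mem_univ _), map_zero_of_add ha, map_one, smul_smul,
    inv_mul_cancel₀ (Nat.cast_ne_zero.2 Fintype.card_ne_zero), one_smul]

omit [FiniteDimensional ℂ V] in
theorem act_proj (ha : ∀ p q, a (p + q) = a p * a q) (p : A) (χ : AddChar A ℂ) :
    π (a p) * proj π a χ = χ p • proj π a χ := by
  unfold proj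
  rw [mul_smul_comm, smul_comm (χ p), Finset.mul_sum, Finset.smul_sum (r := χ p)]
  congr 1
  refine Fintype.sum_equiv (Equiv.addLeft p) _ _ fun q => ?_
  rw [Equiv.coe_addLeft, mul_smul_comm, ← map_mul, ← ha, smul_smul]
  congr 1
  rw [← AddChar.map_add_eq_mul]
  congr 1
  simp [neg_add_rev]

theorem proj_mul (ha : ∀ p q, a (p + q) = a p * a q) (χ χ' : AddChar A ℂ) [Decidable (χ' = χ)] :
    proj π a χ * proj π a χ' = if χ' = χ then proj π a χ' else 0 := by
  classical
  have h : proj π a χ * proj π a χ' = ((Fintype.card A : ℂ)⁻¹ * ∑ p, χ (-p) * χ' p) • proj π a χ' := by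
    conv_lhs => rw [proj.eq_1 π a χ, smul_mul_assoc, Finset.sum_mul]
    simp only [smul_mul_assoc, act_proj π ha, smul_smul, ← Finset.sum_smul]
  have e : (fun p => χ (-p) * χ' p) = fun p => (χ' - χ) p := by
    funext p
    rw [AddChar.sub_apply', mul_comm, AddChar.map_neg_eq_inv, div_eq_mul_inv]
  rw [h, e, AddChar.sum_eq_ite]
  by_cases hc : χ' = χ
  · rw [if_pos hc, if_pos (sub_eq_zero.2 hc), inv_mul_cancel₀ (Nat.cast_ne_zero.2 Fintype.card_ne_zero),
      one_smul]
  · rw [if_neg hc, if_neg (sub_ne_zero.2 hc), mul_zero, zero_smul]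

theorem proj_idem (ha : ∀ p q, a (p + q) = a p * a q) (χ : AddChar A ℂ) :
    IsIdempotentElem (proj π a χ) := by
  classical
  exact (proj_mul π ha χ χ).trans (if_pos rfl)

theorem trace_proj (ha : ∀ p q, a (p + q) = a p * a q) (χ : AddChar A ℂ) :
    trace ℂ V (proj π a χ) = (dimChar π a χ : ℂ) :=
  ((LinearMap.isProj_range_iff_isIdempotentElem _).2 (proj_idem π ha χ)).trace

theorem sum_dimChar (ha : ∀ p q, a (p + q) = a p * a q) :
    ∑ χ : AddChar A ℂ, dimChar π a χ = finrank ℂ V := by
  have h := congrArg (trace ℂ V) (sum_proj π ha)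
  rw [map_sum, trace_one] at h
  simp only [trace_proj π ha] at h
  exact_mod_cast h

omit [FiniteDimensional ℂ V] in
/-- Conjugation moves the projections. -/
theorem proj_conj {g : G} (φ : A ≃+ A) (hg : ∀ p, g * a p = a (φ p) * g) (χ : AddChar A ℂ) :
    π g * proj π a (χ.compAddMonoidHom φ.toAddMonoidHom) = proj π a χ * π g := by
  unfold proj
  rw [mul_smul_comm, smul_mul_assoc, Finset.mul_sum, Finset.sum_mul]
  congr 1
  refine Fintype.sum_equiv φ.toEquiv _ _ fun p => ?_
  rw [mul_smul_comm, smul_mul_assoc, ← map_mul, ← map_mul]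
  show χ (φ (-p)) • π (g * a p) = χ (-φ p) • π (a (φ p) * g)
  rw [hg, map_neg]

theorem dimChar_conj (ha : ∀ p q, a (p + q) = a p * a q) {g : G} (φ : A ≃+ A)
    (hg : ∀ p, g * a p = a (φ p) * g) (χ : AddChar A ℂ) :
    dimChar π a (χ.compAddMonoidHom φ.toAddMonoidHom) = dimChar π a χ := by
  have h := proj_conj π φ hg χ
  have h' : proj π a χ = π g * proj π a (χ.compAddMonoidHom φ.toAddMonoidHom) * π g⁻¹ := by
    rw [h, mul_assoc, ← map_mul, mul_inv_cancel, map_one, mul_one]
  have e : trace ℂ V (proj π a χ) = trace ℂ V (proj π a (χ.compAddMonoidHom φ.toAddMonoidHom)) := by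
    rw [h', trace_mul_comm, ← mul_assoc, ← map_mul, inv_mul_cancel, map_one, one_mul]
  rw [trace_proj π ha, trace_proj π ha] at e
  exact_mod_cast e.symm

/-- A normalising element with no fixed character among those that occur has trace zero. -/
theorem trace_eq_zero (ha : ∀ p q, a (p + q) = a p * a q) {g : G} (φ : A ≃+ A)
    (hg : ∀ p, g * a p = a (φ p) * g)
    (hfix : ∀ χ : AddChar A ℂ, dimChar π a χ ≠ 0 → χ.compAddMonoidHom φ.toAddMonoidHom ≠ χ) :
    trace ℂ V (π g) = 0 := by
  classical
  rw [← mul_one (π g), ← sum_proj π ha, Finset.mul_sum, map_sum]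
  refine Finset.sum_eq_zero fun χ _ => ?_
  by_cases hd : dimChar π a χ = 0
  · have : proj π a χ = 0 := by
      rw [← LinearMap.range_eq_bot]; exact Submodule.finrank_eq_zero.1 hd
    rw [this, mul_zero, map_zero]
  · set χ' := χ.compAddMonoidHom φ.toAddMonoidHom
    have h2 : proj π a χ' * proj π a χ = 0 := by rw [proj_mul π ha, if_neg (hfix χ hd).symm]
    calc trace ℂ V (π g * proj π a χ)
        = trace ℂ V (proj π a χ * (π g * proj π a χ)) := by
          conv_lhs => rw [← (proj_idem π ha χ).eq, ← mul_assoc, trace_mul_comm]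
      _ = trace ℂ V (π g * (proj π a χ' * proj π a χ)) := by
          rw [← mul_assoc, ← mul_assoc, ← proj_conj π φ hg χ]
      _ = 0 := by rw [h2, mul_zero, map_zero]

/-- If all characters that are nontrivial on `Z` have one dimension and `Z` acts nontrivially,
the dimension is at least their number. -/
theorem orbit_bound (ha : ∀ p q, a (p + q) = a p * a q) (S : Finset (AddChar A ℂ))
    (hconst : ∀ χ ∈ S, ∀ χ' ∈ S, dimChar π a χ = dimChar π a χ') {z : A} (hz : π (a z) ≠ 1)
    (hS : ∀ χ : AddChar A ℂ, χ ∉ S → χ z = 1) :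
    S.card ≤ finrank ℂ V ∧ (finrank ℂ V ≤ S.card → ∀ χ : AddChar A ℂ, dimChar π a χ ≠ 0 → χ ∈ S) := by
  classical
  obtain ⟨χ₀, h₀, hd₀⟩ : ∃ χ ∈ S, dimChar π a χ ≠ 0 := by
    by_contra hcon
    push Not at hcon
    refine hz ?_
    rw [← mul_one (π (a z)), ← sum_proj π ha, Finset.mul_sum]
    refine Finset.sum_congr rfl fun χ _ => ?_
    rw [act_proj π ha]
    by_cases h : χ ∈ S
    · have : proj π a χ = 0 := by
        rw [← LinearMap.range_eq_bot]; exact Submodule.finrank_eq_zero.1 (hcon χ h)
      rw [this, smul_zero]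
    · rw [hS χ h, one_smul]
  have hle : S.card ≤ ∑ χ ∈ S, dimChar π a χ := by
    rw [Finset.card_eq_sum_ones]
    exact Finset.sum_le_sum fun χ hχ => by
      have := hconst χ hχ χ₀ h₀
      omega
  have hsplit := (Finset.sum_add_sum_compl S (dimChar π a)).trans (sum_dimChar π ha)
  refine ⟨by omega, fun hk χ hd => ?_⟩
  by_contra hχ
  have : dimChar π a χ ≤ ∑ x ∈ Sᶜ, dimChar π a x :=
    Finset.single_le_sum (fun _ _ => Nat.zero_le _) (Finset.mem_compl.2 hχ)
  omega

/-- Three conjugates of trace zero in a four-group force the dimension to be a multiple of four. -/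
theorem four_dvd {w u : G} (hw : w * w = 1) (hu : u * u = 1) (hc : u * w = w * u)
    (h1 : trace ℂ V (π w) = 0) (h2 : trace ℂ V (π u) = 0) (h3 : trace ℂ V (π (w * u)) = 0) :
    4 ∣ finrank ℂ V := by
  set S : Module.End ℂ V := 1 + π w + π u + π (w * u) with hS
  have hSw : π w * S = S := by
    rw [hS, mul_add, mul_add, mul_add, mul_one, ← map_mul, ← map_mul, ← map_mul, hw, ← mul_assoc, hw,
      one_mul, map_one]
    abel
  have hSu : π u * S = S := by
    rw [hS, mul_add, mul_add, mul_add, mul_one, ← map_mul, ← map_mul, ← map_mul, hu, ← mul_assoc, hc,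
      mul_assoc w, hu, mul_one, map_one]
    abel
  have hSS : S * S = (4 : ℂ) • S := by
    calc S * S = 1 * S + π w * S + π u * S + π w * (π u * S) := by
          conv_lhs => arg 1; rw [hS]
          rw [add_mul, add_mul, add_mul, map_mul, mul_assoc]
      _ = _ := by
          rw [one_mul, hSu, hSw, show (4 : ℂ) = 1 + 1 + 1 + 1 by norm_num]
          simp only [add_smul, one_smul]
  have hidem : IsIdempotentElem ((4 : ℂ)⁻¹ • S) := by
    show _ * _ = _
    rw [smul_mul_assoc, mul_smul_comm, hSS, smul_smul, smul_smul]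
    norm_num
  have ht := ((LinearMap.isProj_range_iff_isIdempotentElem _).2 hidem).trace
  rw [map_smul, hS, map_add, map_add, map_add, h1, h2, h3, trace_one, add_zero, add_zero, add_zero,
    smul_eq_mul] at ht
  refine ⟨finrank ℂ (LinearMap.range ((4 : ℂ)⁻¹ • S)), ?_⟩
  have h4 : (finrank ℂ V : ℂ) = 4 * (finrank ℂ (LinearMap.range ((4 : ℂ)⁻¹ • S)) : ℂ) := by
    rw [hS, ← ht]; ring
  exact_mod_cast h4

end Cfsg.Agent.Lib.ReeDeg41
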